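import Cfsg.Agent.Lib.CosetTable.Big.Maximal
import Cfsg.Agent.Lib.CosetTable.ONSimple.Data
import Cfsg.Agent.Lib.CosetTable.ON122760.Data

/-! Generated base and orbit data for `ON122760`. -/

set_option maxRecDepth 10000
set_option Elab.async false

namespace Cfsg.Agent.Lib.CosetTable.ONSimple

open Cfsg.Agent.Lib.CosetTable

theorem lev2_ok_run1 : rangeAll (lev2.reachOK ON122760.tab ws2) 512 0 = true := by decide +kernel

theorem lev2_ok_run2 : rangeAll (lev2.reachOK ON122760.tab ws2) 512 512 = true := by decide +kernel

theorem lev2_ok_run3 : rangeAll (lev2.reachOK ON122760.tab ws2) 512 1024 = true := by decide +kernel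

theorem lev2_ok_run4 : rangeAll (lev2.reachOK ON122760.tab ws2) 512 1536 = true := by decide +kernel

theorem lev2_ok_run5 : rangeAll (lev2.reachOK ON122760.tab ws2) 512 2048 = true := by decide +kernel

theorem lev2_ok_run6 : rangeAll (lev2.reachOK ON122760.tab ws2) 512 2560 = true := by decide +kernel

theorem lev2_ok_run7 : rangeAll (lev2.reachOK ON122760.tab ws2) 512 3072 = true := by decide +kernel

theorem lev2_ok_run8 : rangeAll (lev2.reachOK ON122760.tab ws2) 512 3584 = true := by decide +kernel

theorem lev2_ok_run9 : rangeAll (lev2.reachOK ON122760.tab ws2) 512 4096 = true := by decide +kernel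

theorem lev2_ok_run10 : rangeAll (lev2.reachOK ON122760.tab ws2) 512 4608 = true := by decide +kernel

theorem lev2_ok_run11 : rangeAll (lev2.reachOK ON122760.tab ws2) 512 5120 = true := by decide +kernel

theorem lev2_ok_run12 : rangeAll (lev2.reachOK ON122760.tab ws2) 512 5632 = true := by decide +kernel

theorem lev2_ok_run13 : rangeAll (lev2.reachOK ON122760.tab ws2) 512 6144 = true := by decide +kernel

theorem lev2_ok_run14 : rangeAll (lev2.reachOK ON122760.tab ws2) 512 6656 = true := by decide +kernel

theorem lev2_ok_run15 : rangeAll (lev2.reachOK ON122760.tab ws2) 512 7168 = true := by decide +kernel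

theorem lev2_ok_run16 : rangeAll (lev2.reachOK ON122760.tab ws2) 512 7680 = true := by decide +kernel

theorem lev2_ok_run17 : rangeAll (lev2.reachOK ON122760.tab ws2) 512 8192 = true := by decide +kernel

theorem lev2_ok_run18 : rangeAll (lev2.reachOK ON122760.tab ws2) 512 8704 = true := by decide +kernel

theorem lev2_ok_run19 : rangeAll (lev2.reachOK ON122760.tab ws2) 512 9216 = true := by decide +kernel

theorem lev2_ok_run20 : rangeAll (lev2.reachOK ON122760.tab ws2) 512 9728 = true := by decide +kernel

theorem lev2_ok_run21 : rangeAll (lev2.reachOK ON122760.tab ws2) 512 10240 = true := by decide +kernel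

theorem lev2_ok_run22 : rangeAll (lev2.reachOK ON122760.tab ws2) 512 10752 = true := by decide +kernel

theorem lev2_ok_run23 : rangeAll (lev2.reachOK ON122760.tab ws2) 512 11264 = true := by decide +kernel

theorem lev2_ok_run24 : rangeAll (lev2.reachOK ON122760.tab ws2) 512 11776 = true := by decide +kernel

theorem lev2_ok_run25 : rangeAll (lev2.reachOK ON122760.tab ws2) 512 12288 = true := by decide +kernel

theorem lev2_ok_run26 : rangeAll (lev2.reachOK ON122760.tab ws2) 512 12800 = true := by decide +kernel

theorem lev2_ok_run27 : rangeAll (lev2.reachOK ON122760.tab ws2) 512 13312 = true := by decide +kernel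

theorem lev2_ok_run28 : rangeAll (lev2.reachOK ON122760.tab ws2) 512 13824 = true := by decide +kernel

theorem lev2_ok_run29 : rangeAll (lev2.reachOK ON122760.tab ws2) 512 14336 = true := by decide +kernel

theorem lev2_ok_run30 : rangeAll (lev2.reachOK ON122760.tab ws2) 512 14848 = true := by decide +kernel

theorem lev2_ok_run31 : rangeAll (lev2.reachOK ON122760.tab ws2) 512 15360 = true := by decide +kernel

theorem lev2_ok_run32 : rangeAll (lev2.reachOK ON122760.tab ws2) 512 15872 = true := by decide +kernel

theorem lev2_ok_run33 : rangeAll (lev2.reachOK ON122760.tab ws2) 512 16384 = true := by decide +kernel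

theorem lev2_ok_run34 : rangeAll (lev2.reachOK ON122760.tab ws2) 512 16896 = true := by decide +kernel

theorem lev2_ok_run35 : rangeAll (lev2.reachOK ON122760.tab ws2) 512 17408 = true := by decide +kernel

theorem lev2_ok_run36 : rangeAll (lev2.reachOK ON122760.tab ws2) 512 17920 = true := by decide +kernel

theorem lev2_ok_run37 : rangeAll (lev2.reachOK ON122760.tab ws2) 512 18432 = true := by decide +kernel

theorem lev2_ok_run38 : rangeAll (lev2.reachOK ON122760.tab ws2) 512 18944 = true := by decide +kernel

theorem lev2_ok_run39 : rangeAll (lev2.reachOK ON122760.tab ws2) 512 19456 = true := by decide +kernel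

theorem lev2_ok_run40 : rangeAll (lev2.reachOK ON122760.tab ws2) 512 19968 = true := by decide +kernel

theorem lev2_ok_run41 : rangeAll (lev2.reachOK ON122760.tab ws2) 512 20480 = true := by decide +kernel

theorem lev2_ok_run42 : rangeAll (lev2.reachOK ON122760.tab ws2) 512 20992 = true := by decide +kernel

theorem lev2_ok_run43 : rangeAll (lev2.reachOK ON122760.tab ws2) 512 21504 = true := by decide +kernel

theorem lev2_ok_run44 : rangeAll (lev2.reachOK ON122760.tab ws2) 512 22016 = true := by decide +kernel

theorem lev2_ok_run45 : rangeAll (lev2.reachOK ON122760.tab ws2) 512 22528 = true := by decide +kernel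

theorem lev2_ok_run46 : rangeAll (lev2.reachOK ON122760.tab ws2) 512 23040 = true := by decide +kernel

theorem lev2_ok_run47 : rangeAll (lev2.reachOK ON122760.tab ws2) 512 23552 = true := by decide +kernel

theorem lev2_ok_run48 : rangeAll (lev2.reachOK ON122760.tab ws2) 512 24064 = true := by decide +kernel

theorem lev2_ok_run49 : rangeAll (lev2.reachOK ON122760.tab ws2) 512 24576 = true := by decide +kernel

theorem lev2_ok_run50 : rangeAll (lev2.reachOK ON122760.tab ws2) 512 25088 = true := by decide +kernel

theorem lev2_ok_run51 : rangeAll (lev2.reachOK ON122760.tab ws2) 512 25600 = true := by decide +kernel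

theorem lev2_ok_run52 : rangeAll (lev2.reachOK ON122760.tab ws2) 512 26112 = true := by decide +kernel

theorem lev2_ok_run53 : rangeAll (lev2.reachOK ON122760.tab ws2) 512 26624 = true := by decide +kernel

theorem lev2_ok_run54 : rangeAll (lev2.reachOK ON122760.tab ws2) 512 27136 = true := by decide +kernel

theorem lev2_ok_run55 : rangeAll (lev2.reachOK ON122760.tab ws2) 512 27648 = true := by decide +kernel

theorem lev2_ok_run56 : rangeAll (lev2.reachOK ON122760.tab ws2) 512 28160 = true := by decide +kernel

theorem lev2_ok_run57 : rangeAll (lev2.reachOK ON122760.tab ws2) 512 28672 = true := by decide +kernel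

theorem lev2_ok_run58 : rangeAll (lev2.reachOK ON122760.tab ws2) 512 29184 = true := by decide +kernel

theorem lev2_ok_run59 : rangeAll (lev2.reachOK ON122760.tab ws2) 512 29696 = true := by decide +kernel

theorem lev2_ok_run60 : rangeAll (lev2.reachOK ON122760.tab ws2) 512 30208 = true := by decide +kernel

theorem lev2_ok_run61 : rangeAll (lev2.reachOK ON122760.tab ws2) 512 30720 = true := by decide +kernel

theorem lev2_ok_run62 : rangeAll (lev2.reachOK ON122760.tab ws2) 512 31232 = true := by decide +kernel

theorem lev2_ok_run63 : rangeAll (lev2.reachOK ON122760.tab ws2) 512 31744 = true := by decide +kernel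

theorem lev2_ok_run64 : rangeAll (lev2.reachOK ON122760.tab ws2) 512 32256 = true := by decide +kernel

theorem lev2_ok_run65 : rangeAll (lev2.reachOK ON122760.tab ws2) 512 32768 = true := by decide +kernel

theorem lev2_ok_run66 : rangeAll (lev2.reachOK ON122760.tab ws2) 512 33280 = true := by decide +kernel

theorem lev2_ok_run67 : rangeAll (lev2.reachOK ON122760.tab ws2) 512 33792 = true := by decide +kernel

theorem lev2_ok_run68 : rangeAll (lev2.reachOK ON122760.tab ws2) 512 34304 = true := by decide +kernel

theorem lev2_ok_run69 : rangeAll (lev2.reachOK ON122760.tab ws2) 512 34816 = true := by decide +kernel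

theorem lev2_ok_run70 : rangeAll (lev2.reachOK ON122760.tab ws2) 512 35328 = true := by decide +kernel

theorem lev2_ok_run71 : rangeAll (lev2.reachOK ON122760.tab ws2) 512 35840 = true := by decide +kernel

theorem lev2_ok_run72 : rangeAll (lev2.reachOK ON122760.tab ws2) 512 36352 = true := by decide +kernel

theorem lev2_ok_run73 : rangeAll (lev2.reachOK ON122760.tab ws2) 512 36864 = true := by decide +kernel

theorem lev2_ok_run74 : rangeAll (lev2.reachOK ON122760.tab ws2) 512 37376 = true := by decide +kernel

theorem lev2_ok_run75 : rangeAll (lev2.reachOK ON122760.tab ws2) 512 37888 = true := by decide +kernel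

theorem lev2_ok_run76 : rangeAll (lev2.reachOK ON122760.tab ws2) 512 38400 = true := by decide +kernel

theorem lev2_ok_run77 : rangeAll (lev2.reachOK ON122760.tab ws2) 512 38912 = true := by decide +kernel

theorem lev2_ok_run78 : rangeAll (lev2.reachOK ON122760.tab ws2) 512 39424 = true := by decide +kernel

theorem lev2_ok_run79 : rangeAll (lev2.reachOK ON122760.tab ws2) 512 39936 = true := by decide +kernel

theorem lev2_ok_run80 : rangeAll (lev2.reachOK ON122760.tab ws2) 512 40448 = true := by decide +kernel

theorem lev2_ok_run81 : rangeAll (lev2.reachOK ON122760.tab ws2) 512 40960 = true := by decide +kernel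

theorem lev2_ok_run82 : rangeAll (lev2.reachOK ON122760.tab ws2) 512 41472 = true := by decide +kernel

theorem lev2_ok_run83 : rangeAll (lev2.reachOK ON122760.tab ws2) 512 41984 = true := by decide +kernel

theorem lev2_ok_run84 : rangeAll (lev2.reachOK ON122760.tab ws2) 512 42496 = true := by decide +kernel

theorem lev2_ok_run85 : rangeAll (lev2.reachOK ON122760.tab ws2) 512 43008 = true := by decide +kernel

theorem lev2_ok_run86 : rangeAll (lev2.reachOK ON122760.tab ws2) 512 43520 = true := by decide +kernel

theorem lev2_ok_run87 : rangeAll (lev2.reachOK ON122760.tab ws2) 512 44032 = true := by decide +kernel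

theorem lev2_ok_run88 : rangeAll (lev2.reachOK ON122760.tab ws2) 512 44544 = true := by decide +kernel

theorem lev2_ok_run89 : rangeAll (lev2.reachOK ON122760.tab ws2) 512 45056 = true := by decide +kernel

theorem lev2_ok_run90 : rangeAll (lev2.reachOK ON122760.tab ws2) 512 45568 = true := by decide +kernel

theorem lev2_ok_run91 : rangeAll (lev2.reachOK ON122760.tab ws2) 512 46080 = true := by decide +kernel

theorem lev2_ok_run92 : rangeAll (lev2.reachOK ON122760.tab ws2) 512 46592 = true := by decide +kernel

theorem lev2_ok_run93 : rangeAll (lev2.reachOK ON122760.tab ws2) 512 47104 = true := by decide +kernel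

theorem lev2_ok_run94 : rangeAll (lev2.reachOK ON122760.tab ws2) 512 47616 = true := by decide +kernel

theorem lev2_ok_run95 : rangeAll (lev2.reachOK ON122760.tab ws2) 512 48128 = true := by decide +kernel

theorem lev2_ok_run96 : rangeAll (lev2.reachOK ON122760.tab ws2) 512 48640 = true := by decide +kernel

theorem lev2_ok_run97 : rangeAll (lev2.reachOK ON122760.tab ws2) 512 49152 = true := by decide +kernel

theorem lev2_ok_run98 : rangeAll (lev2.reachOK ON122760.tab ws2) 512 49664 = true := by decide +kernel

theorem lev2_ok_run99 : rangeAll (lev2.reachOK ON122760.tab ws2) 512 50176 = true := by decide +kernel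

theorem lev2_ok_run100 : rangeAll (lev2.reachOK ON122760.tab ws2) 512 50688 = true := by decide +kernel

theorem lev2_ok_run101 : rangeAll (lev2.reachOK ON122760.tab ws2) 512 51200 = true := by decide +kernel

theorem lev2_ok_run102 : rangeAll (lev2.reachOK ON122760.tab ws2) 512 51712 = true := by decide +kernel

theorem lev2_ok_run103 : rangeAll (lev2.reachOK ON122760.tab ws2) 512 52224 = true := by decide +kernel

theorem lev2_ok_run104 : rangeAll (lev2.reachOK ON122760.tab ws2) 512 52736 = true := by decide +kernel

theorem lev2_ok_run105 : rangeAll (lev2.reachOK ON122760.tab ws2) 512 53248 = true := by decide +kernel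

theorem lev2_ok_run106 : rangeAll (lev2.reachOK ON122760.tab ws2) 512 53760 = true := by decide +kernel

theorem lev2_ok_run107 : rangeAll (lev2.reachOK ON122760.tab ws2) 512 54272 = true := by decide +kernel

theorem lev2_ok_run108 : rangeAll (lev2.reachOK ON122760.tab ws2) 512 54784 = true := by decide +kernel

theorem lev2_ok_run109 : rangeAll (lev2.reachOK ON122760.tab ws2) 512 55296 = true := by decide +kernel

theorem lev2_ok_run110 : rangeAll (lev2.reachOK ON122760.tab ws2) 512 55808 = true := by decide +kernel

theorem lev2_ok_run111 : rangeAll (lev2.reachOK ON122760.tab ws2) 512 56320 = true := by decide +kernel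

theorem lev2_ok_run112 : rangeAll (lev2.reachOK ON122760.tab ws2) 512 56832 = true := by decide +kernel

theorem lev2_ok_run113 : rangeAll (lev2.reachOK ON122760.tab ws2) 512 57344 = true := by decide +kernel

theorem lev2_ok_run114 : rangeAll (lev2.reachOK ON122760.tab ws2) 512 57856 = true := by decide +kernel

theorem lev2_ok_run115 : rangeAll (lev2.reachOK ON122760.tab ws2) 285 58368 = true := by decide +kernel

theorem lev2_ok : Below (lev2.reachOK ON122760.tab ws2) 58653 :=
  (((((((((((((((((((((((((((((((((((((((((((((((((((((((((((((((((((((((((((((((((((((((((((((((((((((((((((((((((((Below.zero _).step (b := 512) lev2_ok_run1 rfl).step (b := 1024) lev2_ok_run2 rfl).step (b := 1536) lev2_ok_run3 rfl).step (b := 2048) lev2_ok_run4 rfl).step (b := 2560) lev2_ok_run5 rfl).step (b := 3072) lev2_ok_run6 rfl).step (b := 3584) lev2_ok_run7 rfl).step (b := 4096) lev2_ok_run8 rfl).step (b := 4608) lev2_ok_run9 rfl).step (b := 5120) lev2_ok_run10 rfl).step (b := 5632) lev2_ok_run11 rfl).step (b := 6144) lev2_ok_run12 rfl).step (b := 6656) lev2_ok_run13 rfl).step (b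 := 7168) lev2_ok_run14 rfl).step (b := 7680) lev2_ok_run15 rfl).step (b := 8192) lev2_ok_run16 rfl).step (b := 8704) lev2_ok_run17 rfl).step (b := 9216) lev2_ok_run18 rfl).step (b := 9728) lev2_ok_run19 rfl).step (b := 10240) lev2_ok_run20 rfl).step (b := 10752) lev2_ok_run21 rfl).step (b := 11264) lev2_ok_run22 rfl).step (b := 11776) lev2_ok_run23 rfl).step (b := 12288) lev2_ok_run24 rfl).step (b := 12800) lev2_ok_run25 rfl).step (b := 13312) lev2_ok_run26 rfl).step (b := 13824) lev2_ok_run27 rfl).step (b := 14336) lev2_ok_run28 rfl).step (b := 14848) lev2_ok_run29 rfl).step (b := 15360) lev2_ok_run30 rfl).step (b := 15872) lev2_ok_run31 rfl).step (b := 16384) lev2_ok_run32 rfl).step (b := 16896) lev2_ok_run33 rfl).step (b := 17408) lev2_ok_run34 rfl).step (b := 17920) lev2_ok_run35 rfl).step (b := 18432) lev2_ok_run36 rfl).step (b := 18944) lev2_ok_run37 rfl).step (b := 19456) lev2_ok_run38 rfl).step (b := 19968) lev2_ok_run39 rfl).step (b := 20480) lev2_ok_run40 rfl).step (b := 20992) lev2_ok_run41 rfl).step (b := 21504) lev2_ok_run42 rfl).step (b := 22016) lev2_ok_run43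 rfl).step (b := 22528) lev2_ok_run44 rfl).step (b := 23040) lev2_ok_run45 rfl).step (b := 23552) lev2_ok_run46 rfl).step (b := 24064) lev2_ok_run47 rfl).step (b := 24576) lev2_ok_run48 rfl).step (b := 25088) lev2_ok_run49 rfl).step (b := 25600) lev2_ok_run50 rfl).step (b := 26112) lev2_ok_run51 rfl).step (b := 26624) lev2_ok_run52 rfl).step (b := 27136) lev2_ok_run53 rfl).step (b := 27648) lev2_ok_run54 rfl).step (b := 28160) lev2_ok_run55 rfl).step (b := 28672) lev2_ok_run56 rfl).step (b := 29184) lev2_ok_run57 rfl).step (b := 29696) lev2_ok_run58 rfl).step (b := 30208) lev2_ok_run59 rfl).step (b := 30720) lev2_ok_run60 rfl).step (b := 31232) lev2_ok_run61 rfl).step (b := 31744) lev2_ok_run62 rfl).step (b := 32256) lev2_ok_run63 rfl).step (b := 32768) lev2_ok_run64 rfl).step (b := 33280) lev2_ok_run65 rfl).step (b := 33792) lev2_ok_run66 rfl).step (b := 34304) lev2_ok_run67 rfl).step (b := 34816) lev2_ok_run68 rfl).step (b := 35328) lev2_ok_run69 rfl).step (b := 35840) lev2_ok_run70 rfl).step (b := 36352) lev2_ok_run71 rfl).step (b := 36864) lev2_ok_run72 rfl).step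 (b := 37376) lev2_ok_run73 rfl).step (b := 37888) lev2_ok_run74 rfl).step (b := 38400) lev2_ok_run75 rfl).step (b := 38912) lev2_ok_run76 rfl).step (b := 39424) lev2_ok_run77 rfl).step (b := 39936) lev2_ok_run78 rfl).step (b := 40448) lev2_ok_run79 rfl).step (b := 40960) lev2_ok_run80 rfl).step (b := 41472) lev2_ok_run81 rfl).step (b := 41984) lev2_ok_run82 rfl).step (b := 42496) lev2_ok_run83 rfl).step (b := 43008) lev2_ok_run84 rfl).step (b := 43520) lev2_ok_run85 rfl).step (b := 44032) lev2_ok_run86 rfl).step (b := 44544) lev2_ok_run87 rfl).step (b := 45056) lev2_ok_run88 rfl).step (b := 45568) lev2_ok_run89 rfl).step (b := 46080) lev2_ok_run90 rfl).step (b := 46592) lev2_ok_run91 rfl).step (b := 47104) lev2_ok_run92 rfl).step (b := 47616) lev2_ok_run93 rfl).step (b := 48128) lev2_ok_run94 rfl).step (b := 48640) lev2_ok_run95 rfl).step (b := 49152) lev2_ok_run96 rfl).step (b := 49664) lev2_ok_run97 rfl).step (b := 50176) lev2_ok_run98 rfl).step (b := 50688) lev2_ok_run99 rfl).step (b := 51200) lev2_ok_run100 rfl).step (b := 51712) lev2_ok_run101 rfl).step (b := 52224)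 lev2_ok_run102 rfl).step (b := 52736) lev2_ok_run103 rfl).step (b := 53248) lev2_ok_run104 rfl).step (b := 53760) lev2_ok_run105 rfl).step (b := 54272) lev2_ok_run106 rfl).step (b := 54784) lev2_ok_run107 rfl).step (b := 55296) lev2_ok_run108 rfl).step (b := 55808) lev2_ok_run109 rfl).step (b := 56320) lev2_ok_run110 rfl).step (b := 56832) lev2_ok_run111 rfl).step (b := 57344) lev2_ok_run112 rfl).step (b := 57856) lev2_ok_run113 rfl).step (b := 58368) lev2_ok_run114 rfl).step (b := 58653) lev2_ok_run115 rfl

end Cfsg.Agent.Lib.CosetTable.ONSimple
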