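import Cfsg.Agent.Lib.CosetTable.Big.Maximal
import Cfsg.Agent.Lib.CosetTable.ONSimple.Data
import Cfsg.Agent.Lib.CosetTable.ON122760.Data

/-! Generated base and orbit data for `ON122760`. -/

set_option maxRecDepth 10000
set_option Elab.async false

namespace Cfsg.Agent.Lib.CosetTable.ONSimple

open Cfsg.Agent.Lib.CosetTable

theorem lev3_ok_run1 : rangeAll (lev3.reachOK ON122760.tab ws3) 64 0 = true := by decide +kernel

theorem lev3_ok : Below (lev3.reachOK ON122760.tab ws3) 64 :=
  (Below.zero _).step (b := 64) lev3_ok_run1 rfl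

end Cfsg.Agent.Lib.CosetTable.ONSimple
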