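import Cfsg.Agent.Lib.CosetTable.ONSimple.Lev1
import Cfsg.Agent.Lib.CosetTable.ONSimple.Lev2
import Cfsg.Agent.Lib.CosetTable.ONSimple.Lev3

/-! Generated base and orbit data for `ON122760`. -/

set_option maxRecDepth 10000
set_option Elab.async false

namespace Cfsg.Agent.Lib.CosetTable.ONSimple

open Cfsg.Agent.Lib.CosetTable

theorem levels_ok : Big.LevelsOK ON122760.cert ON122760.tab levels :=
  ⟨⟨by decide +kernel, lev1_ok, by decide +kernel, by decide +kernel⟩,
   ⟨by decide +kernel, lev2_ok, by decide +kernel, by decide +kernel⟩,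
   ⟨by decide +kernel, lev3_ok, by decide +kernel, by decide +kernel⟩,
   trivial⟩

theorem levels_card : Big.levelsCard levels = 460815505920 := by decide +kernel

theorem elt_base :
    allL (fun q => ON122760.tab.fixOK [(List.replicate 5 elt).flatten] (q.1.get 0)) levels = true := by
  decide +kernel

end Cfsg.Agent.Lib.CosetTable.ONSimple
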