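import Cfsg.Agent.Lib.CosetTable.Big.Maximal
import Cfsg.Agent.Lib.CosetTable.ONSimple.Data
import Cfsg.Agent.Lib.CosetTable.ON122760.Data

/-! Generated base and orbit data for `ON122760`. -/

set_option maxRecDepth 10000
set_option Elab.async false

namespace Cfsg.Agent.Lib.CosetTable.ONSimple

open Cfsg.Agent.Lib.CosetTable

theorem lev1_ok_run1 : rangeAll (lev1.reachOK ON122760.tab ws1) 512 0 = true := by decide +kernel

theorem lev1_ok_run2 : rangeAll (lev1.reachOK ON122760.tab ws1) 512 512 = true := by decide +kernel

theorem lev1_ok_run3 : rangeAll (lev1.reachOK ON122760.tab ws1) 512 1024 = true := by decide +kernel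

theorem lev1_ok_run4 : rangeAll (lev1.reachOK ON122760.tab ws1) 512 1536 = true := by decide +kernel

theorem lev1_ok_run5 : rangeAll (lev1.reachOK ON122760.tab ws1) 512 2048 = true := by decide +kernel

theorem lev1_ok_run6 : rangeAll (lev1.reachOK ON122760.tab ws1) 512 2560 = true := by decide +kernel

theorem lev1_ok_run7 : rangeAll (lev1.reachOK ON122760.tab ws1) 512 3072 = true := by decide +kernel

theorem lev1_ok_run8 : rangeAll (lev1.reachOK ON122760.tab ws1) 512 3584 = true := by decide +kernel

theorem lev1_ok_run9 : rangeAll (lev1.reachOK ON122760.tab ws1) 512 4096 = true := by decide +kernel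

theorem lev1_ok_run10 : rangeAll (lev1.reachOK ON122760.tab ws1) 512 4608 = true := by decide +kernel

theorem lev1_ok_run11 : rangeAll (lev1.reachOK ON122760.tab ws1) 512 5120 = true := by decide +kernel

theorem lev1_ok_run12 : rangeAll (lev1.reachOK ON122760.tab ws1) 512 5632 = true := by decide +kernel

theorem lev1_ok_run13 : rangeAll (lev1.reachOK ON122760.tab ws1) 512 6144 = true := by decide +kernel

theorem lev1_ok_run14 : rangeAll (lev1.reachOK ON122760.tab ws1) 512 6656 = true := by decide +kernel

theorem lev1_ok_run15 : rangeAll (lev1.reachOK ON122760.tab ws1) 512 7168 = true := by decide +kernel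

theorem lev1_ok_run16 : rangeAll (lev1.reachOK ON122760.tab ws1) 512 7680 = true := by decide +kernel

theorem lev1_ok_run17 : rangeAll (lev1.reachOK ON122760.tab ws1) 512 8192 = true := by decide +kernel

theorem lev1_ok_run18 : rangeAll (lev1.reachOK ON122760.tab ws1) 512 8704 = true := by decide +kernel

theorem lev1_ok_run19 : rangeAll (lev1.reachOK ON122760.tab ws1) 512 9216 = true := by decide +kernel

theorem lev1_ok_run20 : rangeAll (lev1.reachOK ON122760.tab ws1) 512 9728 = true := by decide +kernel

theorem lev1_ok_run21 : rangeAll (lev1.reachOK ON122760.tab ws1) 512 10240 = true := by decide +kernel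

theorem lev1_ok_run22 : rangeAll (lev1.reachOK ON122760.tab ws1) 512 10752 = true := by decide +kernel

theorem lev1_ok_run23 : rangeAll (lev1.reachOK ON122760.tab ws1) 512 11264 = true := by decide +kernel

theorem lev1_ok_run24 : rangeAll (lev1.reachOK ON122760.tab ws1) 512 11776 = true := by decide +kernel

theorem lev1_ok_run25 : rangeAll (lev1.reachOK ON122760.tab ws1) 512 12288 = true := by decide +kernel

theorem lev1_ok_run26 : rangeAll (lev1.reachOK ON122760.tab ws1) 512 12800 = true := by decide +kernel

theorem lev1_ok_run27 : rangeAll (lev1.reachOK ON122760.tab ws1) 512 13312 = true := by decide +kernel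

theorem lev1_ok_run28 : rangeAll (lev1.reachOK ON122760.tab ws1) 512 13824 = true := by decide +kernel

theorem lev1_ok_run29 : rangeAll (lev1.reachOK ON122760.tab ws1) 512 14336 = true := by decide +kernel

theorem lev1_ok_run30 : rangeAll (lev1.reachOK ON122760.tab ws1) 512 14848 = true := by decide +kernel

theorem lev1_ok_run31 : rangeAll (lev1.reachOK ON122760.tab ws1) 512 15360 = true := by decide +kernel

theorem lev1_ok_run32 : rangeAll (lev1.reachOK ON122760.tab ws1) 512 15872 = true := by decide +kernel

theorem lev1_ok_run33 : rangeAll (lev1.reachOK ON122760.tab ws1) 512 16384 = true := by decide +kernel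

theorem lev1_ok_run34 : rangeAll (lev1.reachOK ON122760.tab ws1) 512 16896 = true := by decide +kernel

theorem lev1_ok_run35 : rangeAll (lev1.reachOK ON122760.tab ws1) 512 17408 = true := by decide +kernel

theorem lev1_ok_run36 : rangeAll (lev1.reachOK ON122760.tab ws1) 512 17920 = true := by decide +kernel

theorem lev1_ok_run37 : rangeAll (lev1.reachOK ON122760.tab ws1) 512 18432 = true := by decide +kernel

theorem lev1_ok_run38 : rangeAll (lev1.reachOK ON122760.tab ws1) 512 18944 = true := by decide +kernel

theorem lev1_ok_run39 : rangeAll (lev1.reachOK ON122760.tab ws1) 512 19456 = true := by decide +kernel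

theorem lev1_ok_run40 : rangeAll (lev1.reachOK ON122760.tab ws1) 512 19968 = true := by decide +kernel

theorem lev1_ok_run41 : rangeAll (lev1.reachOK ON122760.tab ws1) 512 20480 = true := by decide +kernel

theorem lev1_ok_run42 : rangeAll (lev1.reachOK ON122760.tab ws1) 512 20992 = true := by decide +kernel

theorem lev1_ok_run43 : rangeAll (lev1.reachOK ON122760.tab ws1) 512 21504 = true := by decide +kernel

theorem lev1_ok_run44 : rangeAll (lev1.reachOK ON122760.tab ws1) 512 22016 = true := by decide +kernel

theorem lev1_ok_run45 : rangeAll (lev1.reachOK ON122760.tab ws1) 512 22528 = true := by decide +kernel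

theorem lev1_ok_run46 : rangeAll (lev1.reachOK ON122760.tab ws1) 512 23040 = true := by decide +kernel

theorem lev1_ok_run47 : rangeAll (lev1.reachOK ON122760.tab ws1) 512 23552 = true := by decide +kernel

theorem lev1_ok_run48 : rangeAll (lev1.reachOK ON122760.tab ws1) 512 24064 = true := by decide +kernel

theorem lev1_ok_run49 : rangeAll (lev1.reachOK ON122760.tab ws1) 512 24576 = true := by decide +kernel

theorem lev1_ok_run50 : rangeAll (lev1.reachOK ON122760.tab ws1) 512 25088 = true := by decide +kernel

theorem lev1_ok_run51 : rangeAll (lev1.reachOK ON122760.tab ws1) 512 25600 = true := by decide +kernel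

theorem lev1_ok_run52 : rangeAll (lev1.reachOK ON122760.tab ws1) 512 26112 = true := by decide +kernel

theorem lev1_ok_run53 : rangeAll (lev1.reachOK ON122760.tab ws1) 512 26624 = true := by decide +kernel

theorem lev1_ok_run54 : rangeAll (lev1.reachOK ON122760.tab ws1) 512 27136 = true := by decide +kernel

theorem lev1_ok_run55 : rangeAll (lev1.reachOK ON122760.tab ws1) 512 27648 = true := by decide +kernel

theorem lev1_ok_run56 : rangeAll (lev1.reachOK ON122760.tab ws1) 512 28160 = true := by decide +kernel

theorem lev1_ok_run57 : rangeAll (lev1.reachOK ON122760.tab ws1) 512 28672 = true := by decide +kernel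

theorem lev1_ok_run58 : rangeAll (lev1.reachOK ON122760.tab ws1) 512 29184 = true := by decide +kernel

theorem lev1_ok_run59 : rangeAll (lev1.reachOK ON122760.tab ws1) 512 29696 = true := by decide +kernel

theorem lev1_ok_run60 : rangeAll (lev1.reachOK ON122760.tab ws1) 512 30208 = true := by decide +kernel

theorem lev1_ok_run61 : rangeAll (lev1.reachOK ON122760.tab ws1) 512 30720 = true := by decide +kernel

theorem lev1_ok_run62 : rangeAll (lev1.reachOK ON122760.tab ws1) 512 31232 = true := by decide +kernel

theorem lev1_ok_run63 : rangeAll (lev1.reachOK ON122760.tab ws1) 512 31744 = true := by decide +kernel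

theorem lev1_ok_run64 : rangeAll (lev1.reachOK ON122760.tab ws1) 512 32256 = true := by decide +kernel

theorem lev1_ok_run65 : rangeAll (lev1.reachOK ON122760.tab ws1) 512 32768 = true := by decide +kernel

theorem lev1_ok_run66 : rangeAll (lev1.reachOK ON122760.tab ws1) 512 33280 = true := by decide +kernel

theorem lev1_ok_run67 : rangeAll (lev1.reachOK ON122760.tab ws1) 512 33792 = true := by decide +kernel

theorem lev1_ok_run68 : rangeAll (lev1.reachOK ON122760.tab ws1) 512 34304 = true := by decide +kernel

theorem lev1_ok_run69 : rangeAll (lev1.reachOK ON122760.tab ws1) 512 34816 = true := by decide +kernel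

theorem lev1_ok_run70 : rangeAll (lev1.reachOK ON122760.tab ws1) 512 35328 = true := by decide +kernel

theorem lev1_ok_run71 : rangeAll (lev1.reachOK ON122760.tab ws1) 512 35840 = true := by decide +kernel

theorem lev1_ok_run72 : rangeAll (lev1.reachOK ON122760.tab ws1) 512 36352 = true := by decide +kernel

theorem lev1_ok_run73 : rangeAll (lev1.reachOK ON122760.tab ws1) 512 36864 = true := by decide +kernel

theorem lev1_ok_run74 : rangeAll (lev1.reachOK ON122760.tab ws1) 512 37376 = true := by decide +kernel

theorem lev1_ok_run75 : rangeAll (lev1.reachOK ON122760.tab ws1) 512 37888 = true := by decide +kernel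

theorem lev1_ok_run76 : rangeAll (lev1.reachOK ON122760.tab ws1) 512 38400 = true := by decide +kernel

theorem lev1_ok_run77 : rangeAll (lev1.reachOK ON122760.tab ws1) 512 38912 = true := by decide +kernel

theorem lev1_ok_run78 : rangeAll (lev1.reachOK ON122760.tab ws1) 512 39424 = true := by decide +kernel

theorem lev1_ok_run79 : rangeAll (lev1.reachOK ON122760.tab ws1) 512 39936 = true := by decide +kernel

theorem lev1_ok_run80 : rangeAll (lev1.reachOK ON122760.tab ws1) 512 40448 = true := by decide +kernel

theorem lev1_ok_run81 : rangeAll (lev1.reachOK ON122760.tab ws1) 512 40960 = true := by decide +kernel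

theorem lev1_ok_run82 : rangeAll (lev1.reachOK ON122760.tab ws1) 512 41472 = true := by decide +kernel

theorem lev1_ok_run83 : rangeAll (lev1.reachOK ON122760.tab ws1) 512 41984 = true := by decide +kernel

theorem lev1_ok_run84 : rangeAll (lev1.reachOK ON122760.tab ws1) 512 42496 = true := by decide +kernel

theorem lev1_ok_run85 : rangeAll (lev1.reachOK ON122760.tab ws1) 512 43008 = true := by decide +kernel

theorem lev1_ok_run86 : rangeAll (lev1.reachOK ON122760.tab ws1) 512 43520 = true := by decide +kernel

theorem lev1_ok_run87 : rangeAll (lev1.reachOK ON122760.tab ws1) 512 44032 = true := by decide +kernel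

theorem lev1_ok_run88 : rangeAll (lev1.reachOK ON122760.tab ws1) 512 44544 = true := by decide +kernel

theorem lev1_ok_run89 : rangeAll (lev1.reachOK ON122760.tab ws1) 512 45056 = true := by decide +kernel

theorem lev1_ok_run90 : rangeAll (lev1.reachOK ON122760.tab ws1) 512 45568 = true := by decide +kernel

theorem lev1_ok_run91 : rangeAll (lev1.reachOK ON122760.tab ws1) 512 46080 = true := by decide +kernel

theorem lev1_ok_run92 : rangeAll (lev1.reachOK ON122760.tab ws1) 512 46592 = true := by decide +kernel

theorem lev1_ok_run93 : rangeAll (lev1.reachOK ON122760.tab ws1) 512 47104 = true := by decide +kernel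

theorem lev1_ok_run94 : rangeAll (lev1.reachOK ON122760.tab ws1) 512 47616 = true := by decide +kernel

theorem lev1_ok_run95 : rangeAll (lev1.reachOK ON122760.tab ws1) 512 48128 = true := by decide +kernel

theorem lev1_ok_run96 : rangeAll (lev1.reachOK ON122760.tab ws1) 512 48640 = true := by decide +kernel

theorem lev1_ok_run97 : rangeAll (lev1.reachOK ON122760.tab ws1) 512 49152 = true := by decide +kernel

theorem lev1_ok_run98 : rangeAll (lev1.reachOK ON122760.tab ws1) 512 49664 = true := by decide +kernel

theorem lev1_ok_run99 : rangeAll (lev1.reachOK ON122760.tab ws1) 512 50176 = true := by decide +kernel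

theorem lev1_ok_run100 : rangeAll (lev1.reachOK ON122760.tab ws1) 512 50688 = true := by decide +kernel

theorem lev1_ok_run101 : rangeAll (lev1.reachOK ON122760.tab ws1) 512 51200 = true := by decide +kernel

theorem lev1_ok_run102 : rangeAll (lev1.reachOK ON122760.tab ws1) 512 51712 = true := by decide +kernel

theorem lev1_ok_run103 : rangeAll (lev1.reachOK ON122760.tab ws1) 512 52224 = true := by decide +kernel

theorem lev1_ok_run104 : rangeAll (lev1.reachOK ON122760.tab ws1) 512 52736 = true := by decide +kernel

theorem lev1_ok_run105 : rangeAll (lev1.reachOK ON122760.tab ws1) 512 53248 = true := by decide +kernel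

theorem lev1_ok_run106 : rangeAll (lev1.reachOK ON122760.tab ws1) 512 53760 = true := by decide +kernel

theorem lev1_ok_run107 : rangeAll (lev1.reachOK ON122760.tab ws1) 512 54272 = true := by decide +kernel

theorem lev1_ok_run108 : rangeAll (lev1.reachOK ON122760.tab ws1) 512 54784 = true := by decide +kernel

theorem lev1_ok_run109 : rangeAll (lev1.reachOK ON122760.tab ws1) 512 55296 = true := by decide +kernel

theorem lev1_ok_run110 : rangeAll (lev1.reachOK ON122760.tab ws1) 512 55808 = true := by decide +kernel

theorem lev1_ok_run111 : rangeAll (lev1.reachOK ON122760.tab ws1) 512 56320 = true := by decide +kernel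

theorem lev1_ok_run112 : rangeAll (lev1.reachOK ON122760.tab ws1) 512 56832 = true := by decide +kernel

theorem lev1_ok_run113 : rangeAll (lev1.reachOK ON122760.tab ws1) 512 57344 = true := by decide +kernel

theorem lev1_ok_run114 : rangeAll (lev1.reachOK ON122760.tab ws1) 512 57856 = true := by decide +kernel

theorem lev1_ok_run115 : rangeAll (lev1.reachOK ON122760.tab ws1) 512 58368 = true := by decide +kernel

theorem lev1_ok_run116 : rangeAll (lev1.reachOK ON122760.tab ws1) 512 58880 = true := by decide +kernel

theorem lev1_ok_run117 : rangeAll (lev1.reachOK ON122760.tab ws1) 512 59392 = true := by decide +kernel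

theorem lev1_ok_run118 : rangeAll (lev1.reachOK ON122760.tab ws1) 512 59904 = true := by decide +kernel

theorem lev1_ok_run119 : rangeAll (lev1.reachOK ON122760.tab ws1) 512 60416 = true := by decide +kernel

theorem lev1_ok_run120 : rangeAll (lev1.reachOK ON122760.tab ws1) 512 60928 = true := by decide +kernel

theorem lev1_ok_run121 : rangeAll (lev1.reachOK ON122760.tab ws1) 512 61440 = true := by decide +kernel

theorem lev1_ok_run122 : rangeAll (lev1.reachOK ON122760.tab ws1) 512 61952 = true := by decide +kernel

theorem lev1_ok_run123 : rangeAll (lev1.reachOK ON122760.tab ws1) 512 62464 = true := by decide +kernel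

theorem lev1_ok_run124 : rangeAll (lev1.reachOK ON122760.tab ws1) 512 62976 = true := by decide +kernel

theorem lev1_ok_run125 : rangeAll (lev1.reachOK ON122760.tab ws1) 512 63488 = true := by decide +kernel

theorem lev1_ok_run126 : rangeAll (lev1.reachOK ON122760.tab ws1) 512 64000 = true := by decide +kernel

theorem lev1_ok_run127 : rangeAll (lev1.reachOK ON122760.tab ws1) 512 64512 = true := by decide +kernel

theorem lev1_ok_run128 : rangeAll (lev1.reachOK ON122760.tab ws1) 512 65024 = true := by decide +kernel

theorem lev1_ok_run129 : rangeAll (lev1.reachOK ON122760.tab ws1) 512 65536 = true := by decide +kernel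

theorem lev1_ok_run130 : rangeAll (lev1.reachOK ON122760.tab ws1) 512 66048 = true := by decide +kernel

theorem lev1_ok_run131 : rangeAll (lev1.reachOK ON122760.tab ws1) 512 66560 = true := by decide +kernel

theorem lev1_ok_run132 : rangeAll (lev1.reachOK ON122760.tab ws1) 512 67072 = true := by decide +kernel

theorem lev1_ok_run133 : rangeAll (lev1.reachOK ON122760.tab ws1) 512 67584 = true := by decide +kernel

theorem lev1_ok_run134 : rangeAll (lev1.reachOK ON122760.tab ws1) 512 68096 = true := by decide +kernel

theorem lev1_ok_run135 : rangeAll (lev1.reachOK ON122760.tab ws1) 512 68608 = true := by decide +kernel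

theorem lev1_ok_run136 : rangeAll (lev1.reachOK ON122760.tab ws1) 512 69120 = true := by decide +kernel

theorem lev1_ok_run137 : rangeAll (lev1.reachOK ON122760.tab ws1) 512 69632 = true := by decide +kernel

theorem lev1_ok_run138 : rangeAll (lev1.reachOK ON122760.tab ws1) 512 70144 = true := by decide +kernel

theorem lev1_ok_run139 : rangeAll (lev1.reachOK ON122760.tab ws1) 512 70656 = true := by decide +kernel

theorem lev1_ok_run140 : rangeAll (lev1.reachOK ON122760.tab ws1) 512 71168 = true := by decide +kernel

theorem lev1_ok_run141 : rangeAll (lev1.reachOK ON122760.tab ws1) 512 71680 = true := by decide +kernel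

theorem lev1_ok_run142 : rangeAll (lev1.reachOK ON122760.tab ws1) 512 72192 = true := by decide +kernel

theorem lev1_ok_run143 : rangeAll (lev1.reachOK ON122760.tab ws1) 512 72704 = true := by decide +kernel

theorem lev1_ok_run144 : rangeAll (lev1.reachOK ON122760.tab ws1) 512 73216 = true := by decide +kernel

theorem lev1_ok_run145 : rangeAll (lev1.reachOK ON122760.tab ws1) 512 73728 = true := by decide +kernel

theorem lev1_ok_run146 : rangeAll (lev1.reachOK ON122760.tab ws1) 512 74240 = true := by decide +kernel

theorem lev1_ok_run147 : rangeAll (lev1.reachOK ON122760.tab ws1) 512 74752 = true := by decide +kernel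

theorem lev1_ok_run148 : rangeAll (lev1.reachOK ON122760.tab ws1) 512 75264 = true := by decide +kernel

theorem lev1_ok_run149 : rangeAll (lev1.reachOK ON122760.tab ws1) 512 75776 = true := by decide +kernel

theorem lev1_ok_run150 : rangeAll (lev1.reachOK ON122760.tab ws1) 512 76288 = true := by decide +kernel

theorem lev1_ok_run151 : rangeAll (lev1.reachOK ON122760.tab ws1) 512 76800 = true := by decide +kernel

theorem lev1_ok_run152 : rangeAll (lev1.reachOK ON122760.tab ws1) 512 77312 = true := by decide +kernel

theorem lev1_ok_run153 : rangeAll (lev1.reachOK ON122760.tab ws1) 512 77824 = true := by decide +kernel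

theorem lev1_ok_run154 : rangeAll (lev1.reachOK ON122760.tab ws1) 512 78336 = true := by decide +kernel

theorem lev1_ok_run155 : rangeAll (lev1.reachOK ON122760.tab ws1) 512 78848 = true := by decide +kernel

theorem lev1_ok_run156 : rangeAll (lev1.reachOK ON122760.tab ws1) 512 79360 = true := by decide +kernel

theorem lev1_ok_run157 : rangeAll (lev1.reachOK ON122760.tab ws1) 512 79872 = true := by decide +kernel

theorem lev1_ok_run158 : rangeAll (lev1.reachOK ON122760.tab ws1) 512 80384 = true := by decide +kernel

theorem lev1_ok_run159 : rangeAll (lev1.reachOK ON122760.tab ws1) 512 80896 = true := by decide +kernel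

theorem lev1_ok_run160 : rangeAll (lev1.reachOK ON122760.tab ws1) 512 81408 = true := by decide +kernel

theorem lev1_ok_run161 : rangeAll (lev1.reachOK ON122760.tab ws1) 512 81920 = true := by decide +kernel

theorem lev1_ok_run162 : rangeAll (lev1.reachOK ON122760.tab ws1) 512 82432 = true := by decide +kernel

theorem lev1_ok_run163 : rangeAll (lev1.reachOK ON122760.tab ws1) 512 82944 = true := by decide +kernel

theorem lev1_ok_run164 : rangeAll (lev1.reachOK ON122760.tab ws1) 512 83456 = true := by decide +kernel

theorem lev1_ok_run165 : rangeAll (lev1.reachOK ON122760.tab ws1) 512 83968 = true := by decide +kernel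

theorem lev1_ok_run166 : rangeAll (lev1.reachOK ON122760.tab ws1) 512 84480 = true := by decide +kernel

theorem lev1_ok_run167 : rangeAll (lev1.reachOK ON122760.tab ws1) 512 84992 = true := by decide +kernel

theorem lev1_ok_run168 : rangeAll (lev1.reachOK ON122760.tab ws1) 512 85504 = true := by decide +kernel

theorem lev1_ok_run169 : rangeAll (lev1.reachOK ON122760.tab ws1) 512 86016 = true := by decide +kernel

theorem lev1_ok_run170 : rangeAll (lev1.reachOK ON122760.tab ws1) 512 86528 = true := by decide +kernel

theorem lev1_ok_run171 : rangeAll (lev1.reachOK ON122760.tab ws1) 512 87040 = true := by decide +kernel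

theorem lev1_ok_run172 : rangeAll (lev1.reachOK ON122760.tab ws1) 512 87552 = true := by decide +kernel

theorem lev1_ok_run173 : rangeAll (lev1.reachOK ON122760.tab ws1) 512 88064 = true := by decide +kernel

theorem lev1_ok_run174 : rangeAll (lev1.reachOK ON122760.tab ws1) 512 88576 = true := by decide +kernel

theorem lev1_ok_run175 : rangeAll (lev1.reachOK ON122760.tab ws1) 512 89088 = true := by decide +kernel

theorem lev1_ok_run176 : rangeAll (lev1.reachOK ON122760.tab ws1) 512 89600 = true := by decide +kernel

theorem lev1_ok_run177 : rangeAll (lev1.reachOK ON122760.tab ws1) 512 90112 = true := by decide +kernel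

theorem lev1_ok_run178 : rangeAll (lev1.reachOK ON122760.tab ws1) 512 90624 = true := by decide +kernel

theorem lev1_ok_run179 : rangeAll (lev1.reachOK ON122760.tab ws1) 512 91136 = true := by decide +kernel

theorem lev1_ok_run180 : rangeAll (lev1.reachOK ON122760.tab ws1) 512 91648 = true := by decide +kernel

theorem lev1_ok_run181 : rangeAll (lev1.reachOK ON122760.tab ws1) 512 92160 = true := by decide +kernel

theorem lev1_ok_run182 : rangeAll (lev1.reachOK ON122760.tab ws1) 512 92672 = true := by decide +kernel

theorem lev1_ok_run183 : rangeAll (lev1.reachOK ON122760.tab ws1) 512 93184 = true := by decide +kernel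

theorem lev1_ok_run184 : rangeAll (lev1.reachOK ON122760.tab ws1) 512 93696 = true := by decide +kernel

theorem lev1_ok_run185 : rangeAll (lev1.reachOK ON122760.tab ws1) 512 94208 = true := by decide +kernel

theorem lev1_ok_run186 : rangeAll (lev1.reachOK ON122760.tab ws1) 512 94720 = true := by decide +kernel

theorem lev1_ok_run187 : rangeAll (lev1.reachOK ON122760.tab ws1) 512 95232 = true := by decide +kernel

theorem lev1_ok_run188 : rangeAll (lev1.reachOK ON122760.tab ws1) 512 95744 = true := by decide +kernel

theorem lev1_ok_run189 : rangeAll (lev1.reachOK ON122760.tab ws1) 512 96256 = true := by decide +kernel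

theorem lev1_ok_run190 : rangeAll (lev1.reachOK ON122760.tab ws1) 512 96768 = true := by decide +kernel

theorem lev1_ok_run191 : rangeAll (lev1.reachOK ON122760.tab ws1) 512 97280 = true := by decide +kernel

theorem lev1_ok_run192 : rangeAll (lev1.reachOK ON122760.tab ws1) 512 97792 = true := by decide +kernel

theorem lev1_ok_run193 : rangeAll (lev1.reachOK ON122760.tab ws1) 512 98304 = true := by decide +kernel

theorem lev1_ok_run194 : rangeAll (lev1.reachOK ON122760.tab ws1) 512 98816 = true := by decide +kernel

theorem lev1_ok_run195 : rangeAll (lev1.reachOK ON122760.tab ws1) 512 99328 = true := by decide +kernel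

theorem lev1_ok_run196 : rangeAll (lev1.reachOK ON122760.tab ws1) 512 99840 = true := by decide +kernel

theorem lev1_ok_run197 : rangeAll (lev1.reachOK ON122760.tab ws1) 512 100352 = true := by decide +kernel

theorem lev1_ok_run198 : rangeAll (lev1.reachOK ON122760.tab ws1) 512 100864 = true := by decide +kernel

theorem lev1_ok_run199 : rangeAll (lev1.reachOK ON122760.tab ws1) 512 101376 = true := by decide +kernel

theorem lev1_ok_run200 : rangeAll (lev1.reachOK ON122760.tab ws1) 512 101888 = true := by decide +kernel

theorem lev1_ok_run201 : rangeAll (lev1.reachOK ON122760.tab ws1) 512 102400 = true := by decide +kernel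

theorem lev1_ok_run202 : rangeAll (lev1.reachOK ON122760.tab ws1) 512 102912 = true := by decide +kernel

theorem lev1_ok_run203 : rangeAll (lev1.reachOK ON122760.tab ws1) 512 103424 = true := by decide +kernel

theorem lev1_ok_run204 : rangeAll (lev1.reachOK ON122760.tab ws1) 512 103936 = true := by decide +kernel

theorem lev1_ok_run205 : rangeAll (lev1.reachOK ON122760.tab ws1) 512 104448 = true := by decide +kernel

theorem lev1_ok_run206 : rangeAll (lev1.reachOK ON122760.tab ws1) 512 104960 = true := by decide +kernel

theorem lev1_ok_run207 : rangeAll (lev1.reachOK ON122760.tab ws1) 512 105472 = true := by decide +kernel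

theorem lev1_ok_run208 : rangeAll (lev1.reachOK ON122760.tab ws1) 512 105984 = true := by decide +kernel

theorem lev1_ok_run209 : rangeAll (lev1.reachOK ON122760.tab ws1) 512 106496 = true := by decide +kernel

theorem lev1_ok_run210 : rangeAll (lev1.reachOK ON122760.tab ws1) 512 107008 = true := by decide +kernel

theorem lev1_ok_run211 : rangeAll (lev1.reachOK ON122760.tab ws1) 512 107520 = true := by decide +kernel

theorem lev1_ok_run212 : rangeAll (lev1.reachOK ON122760.tab ws1) 512 108032 = true := by decide +kernel

theorem lev1_ok_run213 : rangeAll (lev1.reachOK ON122760.tab ws1) 512 108544 = true := by decide +kernel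

theorem lev1_ok_run214 : rangeAll (lev1.reachOK ON122760.tab ws1) 512 109056 = true := by decide +kernel

theorem lev1_ok_run215 : rangeAll (lev1.reachOK ON122760.tab ws1) 512 109568 = true := by decide +kernel

theorem lev1_ok_run216 : rangeAll (lev1.reachOK ON122760.tab ws1) 512 110080 = true := by decide +kernel

theorem lev1_ok_run217 : rangeAll (lev1.reachOK ON122760.tab ws1) 512 110592 = true := by decide +kernel

theorem lev1_ok_run218 : rangeAll (lev1.reachOK ON122760.tab ws1) 512 111104 = true := by decide +kernel

theorem lev1_ok_run219 : rangeAll (lev1.reachOK ON122760.tab ws1) 512 111616 = true := by decide +kernel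

theorem lev1_ok_run220 : rangeAll (lev1.reachOK ON122760.tab ws1) 512 112128 = true := by decide +kernel

theorem lev1_ok_run221 : rangeAll (lev1.reachOK ON122760.tab ws1) 512 112640 = true := by decide +kernel

theorem lev1_ok_run222 : rangeAll (lev1.reachOK ON122760.tab ws1) 512 113152 = true := by decide +kernel

theorem lev1_ok_run223 : rangeAll (lev1.reachOK ON122760.tab ws1) 512 113664 = true := by decide +kernel

theorem lev1_ok_run224 : rangeAll (lev1.reachOK ON122760.tab ws1) 512 114176 = true := by decide +kernel

theorem lev1_ok_run225 : rangeAll (lev1.reachOK ON122760.tab ws1) 512 114688 = true := by decide +kernel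

theorem lev1_ok_run226 : rangeAll (lev1.reachOK ON122760.tab ws1) 512 115200 = true := by decide +kernel

theorem lev1_ok_run227 : rangeAll (lev1.reachOK ON122760.tab ws1) 512 115712 = true := by decide +kernel

theorem lev1_ok_run228 : rangeAll (lev1.reachOK ON122760.tab ws1) 512 116224 = true := by decide +kernel

theorem lev1_ok_run229 : rangeAll (lev1.reachOK ON122760.tab ws1) 512 116736 = true := by decide +kernel

theorem lev1_ok_run230 : rangeAll (lev1.reachOK ON122760.tab ws1) 512 117248 = true := by decide +kernel

theorem lev1_ok_run231 : rangeAll (lev1.reachOK ON122760.tab ws1) 512 117760 = true := by decide +kernel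

theorem lev1_ok_run232 : rangeAll (lev1.reachOK ON122760.tab ws1) 512 118272 = true := by decide +kernel

theorem lev1_ok_run233 : rangeAll (lev1.reachOK ON122760.tab ws1) 512 118784 = true := by decide +kernel

theorem lev1_ok_run234 : rangeAll (lev1.reachOK ON122760.tab ws1) 512 119296 = true := by decide +kernel

theorem lev1_ok_run235 : rangeAll (lev1.reachOK ON122760.tab ws1) 512 119808 = true := by decide +kernel

theorem lev1_ok_run236 : rangeAll (lev1.reachOK ON122760.tab ws1) 512 120320 = true := by decide +kernel

theorem lev1_ok_run237 : rangeAll (lev1.reachOK ON122760.tab ws1) 512 120832 = true := by decide +kernel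

theorem lev1_ok_run238 : rangeAll (lev1.reachOK ON122760.tab ws1) 512 121344 = true := by decide +kernel

theorem lev1_ok_run239 : rangeAll (lev1.reachOK ON122760.tab ws1) 512 121856 = true := by decide +kernel

theorem lev1_ok_run240 : rangeAll (lev1.reachOK ON122760.tab ws1) 392 122368 = true := by decide +kernel

theorem lev1_ok : Below (lev1.reachOK ON122760.tab ws1) 122760 :=
  ((((((((((((((((((((((((((((((((((((((((((((((((((((((((((((((((((((((((((((((((((((((((((((((((((((((((((((((((((((((((((((((((((((((((((((((((((((((((((((((((((((((((((((((((((((((((((((((((((((((((((((((((((((((((((((((((((((((((((((((((Below.zero _).step (b := 512) lev1_ok_run1 rfl).step (b := 1024) lev1_ok_run2 rfl).step (b := 1536) lev1_ok_run3 rfl).step (b := 2048) lev1_ok_run4 rfl).step (b := 2560) lev1_ok_run5 rfl).step (b := 3072) lev1_ok_run6 rfl).step (b := 3584) lev1_ok_run7 rfl).step (b := 4096) lev1_ok_run8 rfl).step (b := 4608) lev1_ok_run9 rfl).step (b := 5120) lev1_ok_run10 rfl).step (b := 5632) lev1_ok_run11 rfl).step (b := 6144) lev1_ok_run12 rfl).step (b := 6656) lev1_ok_run13 rfl).step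 (b := 7168) lev1_ok_run14 rfl).step (b := 7680) lev1_ok_run15 rfl).step (b := 8192) lev1_ok_run16 rfl).step (b := 8704) lev1_ok_run17 rfl).step (b := 9216) lev1_ok_run18 rfl).step (b := 9728) lev1_ok_run19 rfl).step (b := 10240) lev1_ok_run20 rfl).step (b := 10752) lev1_ok_run21 rfl).step (b := 11264) lev1_ok_run22 rfl).step (b := 11776) lev1_ok_run23 rfl).step (b := 12288) lev1_ok_run24 rfl).step (b := 12800) lev1_ok_run25 rfl).step (b := 13312) lev1_ok_run26 rfl).step (b := 13824) lev1_ok_run27 rfl).step (b := 14336) lev1_ok_run28 rfl).step (b := 14848) lev1_ok_run29 rfl).step (b := 15360) lev1_ok_run30 rfl).step (b := 15872) lev1_ok_run31 rfl).step (b := 16384) lev1_ok_run32 rfl).step (b := 16896) lev1_ok_run33 rfl).step (b := 17408) lev1_ok_run34 rfl).step (b := 17920) lev1_ok_run35 rfl).step (b := 18432) lev1_ok_run36 rfl).step (b := 18944) lev1_ok_run37 rfl).step (b := 19456) lev1_ok_run38 rfl).step (b := 19968) lev1_ok_run39 rfl).step (b := 20480) lev1_ok_run40 rfl).step (b := 20992) lev1_ok_run41 rfl).step (b := 21504) lev1_ok_run42 rfl).step (b := 22016) lev1_ok_run43 rfl).step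 (b := 22528) lev1_ok_run44 rfl).step (b := 23040) lev1_ok_run45 rfl).step (b := 23552) lev1_ok_run46 rfl).step (b := 24064) lev1_ok_run47 rfl).step (b := 24576) lev1_ok_run48 rfl).step (b := 25088) lev1_ok_run49 rfl).step (b := 25600) lev1_ok_run50 rfl).step (b := 26112) lev1_ok_run51 rfl).step (b := 26624) lev1_ok_run52 rfl).step (b := 27136) lev1_ok_run53 rfl).step (b := 27648) lev1_ok_run54 rfl).step (b := 28160) lev1_ok_run55 rfl).step (b := 28672) lev1_ok_run56 rfl).step (b := 29184) lev1_ok_run57 rfl).step (b := 29696) lev1_ok_run58 rfl).step (b := 30208) lev1_ok_run59 rfl).step (b := 30720) lev1_ok_run60 rfl).step (b := 31232) lev1_ok_run61 rfl).step (b := 31744) lev1_ok_run62 rfl).step (b := 32256) lev1_ok_run63 rfl).step (b := 32768) lev1_ok_run64 rfl).step (b := 33280) lev1_ok_run65 rfl).step (b := 33792) lev1_ok_run66 rfl).step (b := 34304) lev1_ok_run67 rfl).step (b := 34816) lev1_ok_run68 rfl).step (b := 35328) lev1_ok_run69 rfl).step (b := 35840) lev1_ok_run70 rfl).step (b := 36352) lev1_ok_run71 rfl).step (b := 36864) lev1_ok_run72 rfl).step (b := 37376) lev1_ok_run73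 rfl).step (b := 37888) lev1_ok_run74 rfl).step (b := 38400) lev1_ok_run75 rfl).step (b := 38912) lev1_ok_run76 rfl).step (b := 39424) lev1_ok_run77 rfl).step (b := 39936) lev1_ok_run78 rfl).step (b := 40448) lev1_ok_run79 rfl).step (b := 40960) lev1_ok_run80 rfl).step (b := 41472) lev1_ok_run81 rfl).step (b := 41984) lev1_ok_run82 rfl).step (b := 42496) lev1_ok_run83 rfl).step (b := 43008) lev1_ok_run84 rfl).step (b := 43520) lev1_ok_run85 rfl).step (b := 44032) lev1_ok_run86 rfl).step (b := 44544) lev1_ok_run87 rfl).step (b := 45056) lev1_ok_run88 rfl).step (b := 45568) lev1_ok_run89 rfl).step (b := 46080) lev1_ok_run90 rfl).step (b := 46592) lev1_ok_run91 rfl).step (b := 47104) lev1_ok_run92 rfl).step (b := 47616) lev1_ok_run93 rfl).step (b := 48128) lev1_ok_run94 rfl).step (b := 48640) lev1_ok_run95 rfl).step (b := 49152) lev1_ok_run96 rfl).step (b := 49664) lev1_ok_run97 rfl).step (b := 50176) lev1_ok_run98 rfl).step (b := 50688) lev1_ok_run99 rfl).step (b := 51200) lev1_ok_run100 rfl).step (b := 51712) lev1_ok_run101 rfl).step (b := 52224) lev1_ok_run102 rfl).step (b := 52736)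 lev1_ok_run103 rfl).step (b := 53248) lev1_ok_run104 rfl).step (b := 53760) lev1_ok_run105 rfl).step (b := 54272) lev1_ok_run106 rfl).step (b := 54784) lev1_ok_run107 rfl).step (b := 55296) lev1_ok_run108 rfl).step (b := 55808) lev1_ok_run109 rfl).step (b := 56320) lev1_ok_run110 rfl).step (b := 56832) lev1_ok_run111 rfl).step (b := 57344) lev1_ok_run112 rfl).step (b := 57856) lev1_ok_run113 rfl).step (b := 58368) lev1_ok_run114 rfl).step (b := 58880) lev1_ok_run115 rfl).step (b := 59392) lev1_ok_run116 rfl).step (b := 59904) lev1_ok_run117 rfl).step (b := 60416) lev1_ok_run118 rfl).step (b := 60928) lev1_ok_run119 rfl).step (b := 61440) lev1_ok_run120 rfl).step (b := 61952) lev1_ok_run121 rfl).step (b := 62464) lev1_ok_run122 rfl).step (b := 62976) lev1_ok_run123 rfl).step (b := 63488) lev1_ok_run124 rfl).step (b := 64000) lev1_ok_run125 rfl).step (b := 64512) lev1_ok_run126 rfl).step (b := 65024) lev1_ok_run127 rfl).step (b := 65536) lev1_ok_run128 rfl).step (b := 66048) lev1_ok_run129 rfl).step (b := 66560) lev1_ok_run130 rfl).step (b := 67072) lev1_ok_run131 rfl).step (b :=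 67584) lev1_ok_run132 rfl).step (b := 68096) lev1_ok_run133 rfl).step (b := 68608) lev1_ok_run134 rfl).step (b := 69120) lev1_ok_run135 rfl).step (b := 69632) lev1_ok_run136 rfl).step (b := 70144) lev1_ok_run137 rfl).step (b := 70656) lev1_ok_run138 rfl).step (b := 71168) lev1_ok_run139 rfl).step (b := 71680) lev1_ok_run140 rfl).step (b := 72192) lev1_ok_run141 rfl).step (b := 72704) lev1_ok_run142 rfl).step (b := 73216) lev1_ok_run143 rfl).step (b := 73728) lev1_ok_run144 rfl).step (b := 74240) lev1_ok_run145 rfl).step (b := 74752) lev1_ok_run146 rfl).step (b := 75264) lev1_ok_run147 rfl).step (b := 75776) lev1_ok_run148 rfl).step (b := 76288) lev1_ok_run149 rfl).step (b := 76800) lev1_ok_run150 rfl).step (b := 77312) lev1_ok_run151 rfl).step (b := 77824) lev1_ok_run152 rfl).step (b := 78336) lev1_ok_run153 rfl).step (b := 78848) lev1_ok_run154 rfl).step (b := 79360) lev1_ok_run155 rfl).step (b := 79872) lev1_ok_run156 rfl).step (b := 80384) lev1_ok_run157 rfl).step (b := 80896) lev1_ok_run158 rfl).step (b := 81408) lev1_ok_run159 rfl).step (b := 81920) lev1_ok_run160 rfl).step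 (b := 82432) lev1_ok_run161 rfl).step (b := 82944) lev1_ok_run162 rfl).step (b := 83456) lev1_ok_run163 rfl).step (b := 83968) lev1_ok_run164 rfl).step (b := 84480) lev1_ok_run165 rfl).step (b := 84992) lev1_ok_run166 rfl).step (b := 85504) lev1_ok_run167 rfl).step (b := 86016) lev1_ok_run168 rfl).step (b := 86528) lev1_ok_run169 rfl).step (b := 87040) lev1_ok_run170 rfl).step (b := 87552) lev1_ok_run171 rfl).step (b := 88064) lev1_ok_run172 rfl).step (b := 88576) lev1_ok_run173 rfl).step (b := 89088) lev1_ok_run174 rfl).step (b := 89600) lev1_ok_run175 rfl).step (b := 90112) lev1_ok_run176 rfl).step (b := 90624) lev1_ok_run177 rfl).step (b := 91136) lev1_ok_run178 rfl).step (b := 91648) lev1_ok_run179 rfl).step (b := 92160) lev1_ok_run180 rfl).step (b := 92672) lev1_ok_run181 rfl).step (b := 93184) lev1_ok_run182 rfl).step (b := 93696) lev1_ok_run183 rfl).step (b := 94208) lev1_ok_run184 rfl).step (b := 94720) lev1_ok_run185 rfl).step (b := 95232) lev1_ok_run186 rfl).step (b := 95744) lev1_ok_run187 rfl).step (b := 96256) lev1_ok_run188 rfl).step (b := 96768) lev1_ok_run189 rfl).step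 (b := 97280) lev1_ok_run190 rfl).step (b := 97792) lev1_ok_run191 rfl).step (b := 98304) lev1_ok_run192 rfl).step (b := 98816) lev1_ok_run193 rfl).step (b := 99328) lev1_ok_run194 rfl).step (b := 99840) lev1_ok_run195 rfl).step (b := 100352) lev1_ok_run196 rfl).step (b := 100864) lev1_ok_run197 rfl).step (b := 101376) lev1_ok_run198 rfl).step (b := 101888) lev1_ok_run199 rfl).step (b := 102400) lev1_ok_run200 rfl).step (b := 102912) lev1_ok_run201 rfl).step (b := 103424) lev1_ok_run202 rfl).step (b := 103936) lev1_ok_run203 rfl).step (b := 104448) lev1_ok_run204 rfl).step (b := 104960) lev1_ok_run205 rfl).step (b := 105472) lev1_ok_run206 rfl).step (b := 105984) lev1_ok_run207 rfl).step (b := 106496) lev1_ok_run208 rfl).step (b := 107008) lev1_ok_run209 rfl).step (b := 107520) lev1_ok_run210 rfl).step (b := 108032) lev1_ok_run211 rfl).step (b := 108544) lev1_ok_run212 rfl).step (b := 109056) lev1_ok_run213 rfl).step (b := 109568) lev1_ok_run214 rfl).step (b := 110080) lev1_ok_run215 rfl).step (b := 110592) lev1_ok_run216 rfl).step (b := 111104) lev1_ok_run217 rfl).step (b := 111616)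 lev1_ok_run218 rfl).step (b := 112128) lev1_ok_run219 rfl).step (b := 112640) lev1_ok_run220 rfl).step (b := 113152) lev1_ok_run221 rfl).step (b := 113664) lev1_ok_run222 rfl).step (b := 114176) lev1_ok_run223 rfl).step (b := 114688) lev1_ok_run224 rfl).step (b := 115200) lev1_ok_run225 rfl).step (b := 115712) lev1_ok_run226 rfl).step (b := 116224) lev1_ok_run227 rfl).step (b := 116736) lev1_ok_run228 rfl).step (b := 117248) lev1_ok_run229 rfl).step (b := 117760) lev1_ok_run230 rfl).step (b := 118272) lev1_ok_run231 rfl).step (b := 118784) lev1_ok_run232 rfl).step (b := 119296) lev1_ok_run233 rfl).step (b := 119808) lev1_ok_run234 rfl).step (b := 120320) lev1_ok_run235 rfl).step (b := 120832) lev1_ok_run236 rfl).step (b := 121344) lev1_ok_run237 rfl).step (b := 121856) lev1_ok_run238 rfl).step (b := 122368) lev1_ok_run239 rfl).step (b := 122760) lev1_ok_run240 rfl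

end Cfsg.Agent.Lib.CosetTable.ONSimple
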